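/-
helper29: a finite group with no proper non-trivial normal subgroup invariant under a group of
automorphisms is a direct power of a simple group; and a direct power of a simple group has no
proper non-trivial subgroup invariant under all automorphisms.
-/
import Mathlib

set_option autoImplicit false

namespace Cfsg.Agent.Helper29

universe u

/-- Transport a finite group to `Type`. -/
theorem exists_type0_mulEquiv (T : Type u) [Group T] [Finite T] :
    ∃ (T' : Type) (_ : Group T'), Nonempty (T ≃* T') := by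
  let e : T ≃ {k : ℕ // k < Nat.card T} := (Finite.equivFin T).trans Fin.equivSubtype
  exact ⟨{k : ℕ // k < Nat.card T}, e.symm.group, ⟨by
    letI : Group {k : ℕ // k < Nat.card T} := e.symm.group
    exact (e.symm.mulEquiv).symm⟩⟩

/-- The splitting `(Fin (m+1) → T) →* (Fin m → T) × T`. -/
def splitLast (T : Type u) [Group T] (m : ℕ) : (Fin (m + 1) → T) →* (Fin m → T) × T where
  toFun x := (fun i => x i.castSucc, x (Fin.last m))
  map_one' := rfl
  map_mul' _ _ := rfl

theorem splitLast_injective (T : Type u) [Group T] (m : ℕ) :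
    Function.Injective (splitLast T m) := by
  intro x y h
  have h1 : (fun i : Fin m => x i.castSucc) = fun i => y i.castSucc := congrArg Prod.fst h
  have h2 : x (Fin.last m) = y (Fin.last m) := congrArg Prod.snd h
  funext i
  exact Fin.lastCases (motive := fun i => x i = y i) h2 (fun j => congrFun h1 j) i

theorem splitLast_surjective (T : Type u) [Group T] (m : ℕ) :
    Function.Surjective (splitLast T m) := by
  rintro ⟨a, b⟩
  refine ⟨fun i => if h : i.val < m then a ⟨i.val, h⟩ else b, ?_⟩
  refine Prod.ext ?_ ?_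
  · funext i
    show (if h : (i.castSucc).val < m then a ⟨(i.castSucc).val, h⟩ else b) = a i
    have hi : (i.castSucc).val < m := i.2
    rw [dif_pos hi]
    rfl
  · show (if h : (Fin.last m).val < m then a ⟨(Fin.last m).val, h⟩ else b) = b
    rw [dif_neg (by simp)]

theorem direct_power_aux {N : Type u} [Group N] [Finite N] [Nontrivial N]
    (𝒜 : Subgroup (MulAut N))
    (hinv : ∀ M : Subgroup N, M.Normal → (∀ φ ∈ 𝒜, ∀ n ∈ M, (φ : N ≃* N) n ∈ M) →
      M = ⊥ ∨ M = ⊤) :
    ∃ (T : Subgroup N) (m : ℕ), IsSimpleGroup T ∧ 0 < m ∧ Nonempty (N ≃* (Fin m → T)) := by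
  classical
  -- a nontrivial normal subgroup of minimal order
  obtain ⟨N₁, ⟨hN₁n, hN₁ne⟩, hN₁min⟩ := Set.exists_min_image
    {X : Subgroup N | X.Normal ∧ X ≠ ⊥} (fun X => Nat.card X) (Set.toFinite _)
    ⟨⊤, inferInstance, top_ne_bot⟩
  have hmin : ∀ X : Subgroup N, X.Normal → X ≠ ⊥ → Nat.card N₁ ≤ Nat.card X :=
    fun X hX hX' => hN₁min X ⟨hX, hX'⟩
  have hN₁nt : Nontrivial N₁ := (Subgroup.nontrivial_iff_ne_bot N₁).mpr hN₁ne
  have hcard2 : 2 ≤ Nat.card N₁ := Finite.one_lt_card (α := N₁)
  have hstar : ∀ φ : MulAut N, ∀ X : Subgroup N, X.Normal →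
      X ≤ N₁.map (φ : N ≃* N).toMonoidHom → X ≠ N₁.map (φ : N ≃* N).toMonoidHom → X = ⊥ := by
    intro φ X hXn hXle hXne
    by_contra hX
    have h1 := hmin X hXn hX
    have h2 : Nat.card (N₁.map (φ : N ≃* N).toMonoidHom) = Nat.card N₁ :=
      Subgroup.card_map_of_injective (f := (φ : N ≃* N).toMonoidHom) (φ : N ≃* N).injective
    exact hXne (Subgroup.eq_of_le_of_card_ge hXle (by rw [h2]; exact h1))
  -- the predicate
  have hP0 : ∃ ψ : (Fin 0 → N₁) →* N, Function.Injective ψ ∧ ψ.range.Normal := by
    refine ⟨1, ?_, ?_⟩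
    · intro a b _
      exact Subsingleton.elim a b
    · rw [MonoidHom.range_one]; infer_instance
  have hbound : ∀ m, (∃ ψ : (Fin m → N₁) →* N, Function.Injective ψ ∧ ψ.range.Normal) →
      m ≤ Nat.card N := by
    rintro m ⟨ψ, hψ, -⟩
    have h1 : Nat.card (Fin m → N₁) ≤ Nat.card N := Nat.card_le_card_of_injective ψ hψ
    rw [Nat.card_fun] at h1
    simp only [Nat.card_eq_fintype_card, Fintype.card_fin] at h1
    have h2 : 2 ^ m ≤ Nat.card N₁ ^ m := Nat.pow_le_pow_left hcard2 m
    have h3 : m < 2 ^ m := m.lt_two_pow_self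
    exact le_of_lt (lt_of_lt_of_le h3 (le_trans h2 h1))
  obtain ⟨m₀, hPm₀, hmax⟩ := Set.exists_max_image
    {m : ℕ | ∃ ψ : (Fin m → N₁) →* N, Function.Injective ψ ∧ ψ.range.Normal} (fun m => m)
    ((Set.finite_Iic (Nat.card N)).subset (fun m hm => hbound m hm)) ⟨0, hP0⟩
  obtain ⟨ψ, hψinj, hψn⟩ := hPm₀
  -- the range is everything
  have htop : ψ.range = ⊤ := by
    by_contra hM
    let Q : Subgroup N :=
      { carrier := {n | ∀ φ ∈ 𝒜, (φ : N ≃* N) n ∈ ψ.range}
        mul_mem' := fun {a b} ha hb φ hφ => by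
          rw [map_mul]; exact ψ.range.mul_mem (ha φ hφ) (hb φ hφ)
        one_mem' := fun φ hφ => by rw [map_one]; exact ψ.range.one_mem
        inv_mem' := fun {a} ha φ hφ => by rw [map_inv]; exact ψ.range.inv_mem (ha φ hφ) }
    have hQmem : ∀ n, n ∈ Q ↔ ∀ φ ∈ 𝒜, (φ : N ≃* N) n ∈ ψ.range := fun n => Iff.rfl
    have hQn : Q.Normal := by
      refine ⟨fun n hn g => ?_⟩
      rw [hQmem] at hn ⊢
      intro φ hφ
      rw [map_mul, map_mul, map_inv]
      exact hψn.conj_mem _ (hn φ hφ) _
    have hQinv : ∀ φ ∈ 𝒜, ∀ n ∈ Q, (φ : N ≃* N) n ∈ Q := by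
      intro φ hφ n hn
      rw [hQmem] at hn ⊢
      intro φ' hφ'
      have h := hn (φ' * φ) (𝒜.mul_mem hφ' hφ)
      rw [MulAut.mul_apply] at h
      exact h
    have hQle : Q ≤ ψ.range := by
      intro n hn
      have h := (hQmem n).mp hn 1 𝒜.one_mem
      rw [MulAut.one_apply] at h
      exact h
    rcases hinv Q hQn hQinv with hQ | hQ
    · have hex : ∃ φ ∈ 𝒜, ¬ N₁.map (φ : N ≃* N).toMonoidHom ≤ ψ.range := by
        by_contra hcon
        push Not at hcon
        apply hN₁ne
        rw [eq_bot_iff, ← hQ]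
        intro n hn
        rw [hQmem]
        intro φ hφ
        exact hcon φ hφ ⟨n, hn, rfl⟩
      obtain ⟨φ, hφ, hnle⟩ := hex
      have hYn : (N₁.map (φ : N ≃* N).toMonoidHom).Normal :=
        hN₁n.map _ (φ : N ≃* N).surjective
      have hXbot : N₁.map (φ : N ≃* N).toMonoidHom ⊓ ψ.range = ⊥ := by
        refine hstar φ _ (Subgroup.normal_inf_normal _ _ (hH := hYn) (hK := hψn)) inf_le_left ?_
        intro h
        exact hnle (inf_eq_left.mp h)
      have hdis : Disjoint ψ.range (N₁.map (φ : N ≃* N).toMonoidHom) := by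
        rw [disjoint_iff, inf_comm]; exact hXbot
      let φ' : N₁ →* N := (φ : N ≃* N).toMonoidHom.comp N₁.subtype
      have hφ'range : φ'.range = N₁.map (φ : N ≃* N).toMonoidHom := by
        ext n
        constructor
        · rintro ⟨b, rfl⟩
          exact ⟨b, b.2, rfl⟩
        · rintro ⟨b, hb, rfl⟩
          exact ⟨⟨b, hb⟩, rfl⟩
      have hφ'inj : Function.Injective φ' := by
        intro a b h
        exact Subtype.ext ((φ : N ≃* N).injective h)
      have comm : ∀ (a : Fin m₀ → N₁) (b : N₁), Commute (ψ a) (φ' b) := by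
        intro a b
        exact Subgroup.commute_of_normal_of_disjoint ψ.range _ hψn hYn hdis (ψ a) (φ' b)
          ⟨a, rfl⟩ ⟨b, b.2, rfl⟩
      have hPsucc : ∃ ψ' : (Fin (m₀ + 1) → N₁) →* N, Function.Injective ψ' ∧ ψ'.range.Normal := by
        refine ⟨(MonoidHom.noncommCoprod ψ φ' comm).comp (splitLast N₁ m₀), ?_, ?_⟩
        · rw [MonoidHom.coe_comp]
          refine Function.Injective.comp ?_ (splitLast_injective N₁ m₀)
          rw [MonoidHom.noncommCoprod_injective]
          exact ⟨hψinj, hφ'inj, by rw [hφ'range]; exact hdis⟩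
        · rw [← MonoidHom.map_range, MonoidHom.range_eq_top.mpr (splitLast_surjective N₁ m₀),
            ← MonoidHom.range_eq_map, MonoidHom.noncommCoprod_range, hφ'range]
          exact Subgroup.sup_normal _ _ (hH := hψn) (hK := hYn)
      have h5 : m₀ + 1 ≤ m₀ := hmax _ hPsucc
      omega
    · apply hM
      rw [eq_top_iff, ← hQ]
      exact hQle
  let e : (Fin m₀ → N₁) ≃* N := MulEquiv.ofBijective ψ ⟨hψinj, MonoidHom.range_eq_top.mp htop⟩
  have hpos : 0 < m₀ := by
    rcases Nat.eq_zero_or_pos m₀ with h0 | h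
    · exfalso
      subst h0
      have hsub : Subsingleton N := e.symm.toEquiv.subsingleton
      exact not_subsingleton N hsub
    · exact h
  have hsimple : IsSimpleGroup N₁ := by
    refine { toNontrivial := hN₁nt, eq_bot_or_eq_top_of_normal := ?_ }
    intro A hA
    by_cases hAbot : A = ⊥
    · exact Or.inl hAbot
    right
    let i₀ : Fin m₀ := ⟨0, hpos⟩
    let A' : Subgroup (Fin m₀ → N₁) :=
      { carrier := {x | x i₀ ∈ A ∧ ∀ i, i ≠ i₀ → x i = 1}
        mul_mem' := fun {a b} ha hb => ⟨A.mul_mem ha.1 hb.1, fun i hi => by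
          show a i * b i = 1
          rw [ha.2 i hi, hb.2 i hi, mul_one]⟩
        one_mem' := ⟨A.one_mem, fun i _ => rfl⟩
        inv_mem' := fun {a} ha => ⟨A.inv_mem ha.1, fun i hi => by
          show (a i)⁻¹ = 1
          rw [ha.2 i hi, inv_one]⟩ }
    have hA'mem : ∀ x, x ∈ A' ↔ x i₀ ∈ A ∧ ∀ i, i ≠ i₀ → x i = 1 := fun x => Iff.rfl
    have hA'n : A'.Normal := by
      refine ⟨fun x hx g => ?_⟩
      rw [hA'mem] at hx ⊢
      refine ⟨?_, fun i hi => ?_⟩
      · show g i₀ * x i₀ * (g i₀)⁻¹ ∈ A
        exact hA.conj_mem _ hx.1 _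
      · show g i * x i * (g i)⁻¹ = 1
        rw [hx.2 i hi, mul_one, mul_inv_cancel]
    have hA'ne : A' ≠ ⊥ := by
      obtain ⟨a, haA, ha1⟩ : ∃ a ∈ A, a ≠ 1 := by
        by_contra hcon
        push Not at hcon
        exact hAbot ((Subgroup.eq_bot_iff_forall A).mpr hcon)
      intro h
      have hmem : (Pi.mulSingle i₀ a : Fin m₀ → N₁) ∈ A' := by
        rw [hA'mem]
        refine ⟨by rw [Pi.mulSingle_apply, if_pos rfl]; exact haA,
          fun i hi => by rw [Pi.mulSingle_apply, if_neg hi]⟩
      rw [h, Subgroup.mem_bot] at hmem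
      have h6 := congrFun hmem i₀
      rw [Pi.mulSingle_apply, if_pos rfl] at h6
      exact ha1 h6
    have hcardA' : Nat.card A' ≤ Nat.card A := by
      refine Nat.card_le_card_of_injective
        (fun x : A' => (⟨x.1 i₀, ((hA'mem x.1).mp x.2).1⟩ : A)) ?_
      intro x y hxy
      apply Subtype.ext
      funext i
      by_cases hi : i = i₀
      · rw [hi]; exact congrArg Subtype.val hxy
      · rw [((hA'mem x.1).mp x.2).2 i hi, ((hA'mem y.1).mp y.2).2 i hi]
    have hBn : (A'.map e.toMonoidHom).Normal := hA'n.map _ e.surjective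
    have hBne : A'.map e.toMonoidHom ≠ ⊥ := by
      intro h
      exact hA'ne ((Subgroup.map_eq_bot_iff_of_injective A' (f := e.toMonoidHom) e.injective).mp h)
    have hcardB : Nat.card (A'.map e.toMonoidHom) = Nat.card A' :=
      Subgroup.card_map_of_injective (f := e.toMonoidHom) e.injective
    have h1 := hmin _ hBn hBne
    exact Subgroup.eq_top_of_le_card A (by omega)
  exact ⟨N₁, m₀, hsimple, hpos, ⟨e.symm⟩⟩

/-- A finite nontrivial group with no proper nontrivial normal subgroup invariant under a group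
`𝒜` of automorphisms is isomorphic to a direct power of a simple group (living in `Type`). -/
theorem direct_power {N : Type u} [Group N] [Finite N] [Nontrivial N]
    (𝒜 : Subgroup (MulAut N))
    (hinv : ∀ M : Subgroup N, M.Normal → (∀ φ ∈ 𝒜, ∀ n ∈ M, (φ : N ≃* N) n ∈ M) →
      M = ⊥ ∨ M = ⊤) :
    ∃ (T : Type) (_ : Group T) (m : ℕ), IsSimpleGroup T ∧ 0 < m ∧
      Nonempty (N ≃* (Fin m → T)) := by
  obtain ⟨T, m, hT, hm, ⟨e⟩⟩ := direct_power_aux 𝒜 hinv
  obtain ⟨T', hG, ⟨f⟩⟩ := exists_type0_mulEquiv T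
  refine ⟨T', hG, m, ?_, hm, ⟨e.trans (MulEquiv.piCongrRight fun _ => f)⟩⟩
  exact f.symm.isSimpleGroup

/-- The shear automorphism of a power of a commutative group: multiply coordinate `j` by
coordinate `i`. -/
def shear {S : Type u} [Group S] (hc : ∀ a b : S, a * b = b * a) {n : ℕ} (i j : Fin n)
    (hij : i ≠ j) : (Fin n → S) ≃* (Fin n → S) where
  toFun y := fun l => if l = j then y j * y i else y l
  invFun y := fun l => if l = j then y j * (y i)⁻¹ else y l
  left_inv y := by
    funext l
    by_cases hl : l = j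
    · subst hl; simp [hij]
    · simp [hl]
  right_inv y := by
    funext l
    by_cases hl : l = j
    · subst hl; simp [hij]
    · simp [hl]
  map_mul' y z := by
    have key : ∀ a b c d : S, a * b * (c * d) = a * c * (b * d) := fun a b c d => by
      rw [mul_assoc, mul_assoc, ← mul_assoc b c d, hc b c, mul_assoc]
    funext l
    by_cases hl : l = j
    · subst hl
      show (if l = l then (y l * z l) * (y i * z i) else y l * z l) =
        (if l = l then y l * y i else y l) * (if l = l then z l * z i else z l)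
      rw [if_pos rfl, if_pos rfl, if_pos rfl]
      exact key _ _ _ _
    · show (if l = j then (y j * z j) * (y i * z i) else y l * z l) =
        (if l = j then y j * y i else y l) * (if l = j then z j * z i else z l)
      rw [if_neg hl, if_neg hl, if_neg hl]

theorem shear_apply {S : Type u} [Group S] (hc : ∀ a b : S, a * b = b * a) {n : ℕ} (i j : Fin n)
    (hij : i ≠ j) (y : Fin n → S) (l : Fin n) :
    shear hc i j hij y l = if l = j then y j * y i else y l := rfl

/-- Swapping two coordinates. -/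
def coordSwap {S : Type u} [Group S] {n : ℕ} (j k : Fin n) : (Fin n → S) ≃* (Fin n → S) where
  toFun y := fun l => y (Equiv.swap j k l)
  invFun y := fun l => y (Equiv.swap j k l)
  left_inv y := by funext l; simp
  right_inv y := by funext l; simp
  map_mul' _ _ := rfl

theorem coordSwap_apply {S : Type u} [Group S] {n : ℕ} (j k : Fin n) (y : Fin n → S) (l : Fin n) :
    coordSwap j k y l = y (Equiv.swap j k l) := rfl

/-- A subgroup of a direct power of a simple group invariant under all automorphisms is trivial or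
everything. -/
theorem pi_invariant_subgroup {S : Type u} [Group S] [IsSimpleGroup S] (n : ℕ)
    (K : Subgroup (Fin n → S))
    (hK : ∀ φ : (Fin n → S) ≃* (Fin n → S), ∀ x ∈ K, φ x ∈ K) : K = ⊥ ∨ K = ⊤ := by
  classical
  by_cases hbot : K = ⊥
  · exact Or.inl hbot
  right
  obtain ⟨x, hxK, hx1⟩ : ∃ x ∈ K, x ≠ 1 := by
    by_contra hcon
    push Not at hcon
    exact hbot ((Subgroup.eq_bot_iff_forall K).mpr hcon)
  obtain ⟨i, hi⟩ : ∃ i, x i ≠ 1 := by
    by_contra hcon
    push Not at hcon
    exact hx1 (funext hcon)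
  have hconj : ∀ g : Fin n → S, ∀ y ∈ K, g * y * g⁻¹ ∈ K := fun g y hy => by
    have h := hK (MulAut.conj g) y hy
    rwa [MulAut.conj_apply] at h
  -- Claim A: a nontrivial element supported on one coordinate
  have hA : ∃ j, ∃ s : S, s ≠ 1 ∧ Pi.mulSingle j s ∈ K := by
    by_cases hc : ∀ a b : S, a * b = b * a
    · by_cases hj : ∃ j, i ≠ j
      · obtain ⟨j, hij⟩ := hj
        refine ⟨j, x i, hi, ?_⟩
        have h1 : shear hc i j hij x * x⁻¹ ∈ K := K.mul_mem (hK _ x hxK) (K.inv_mem hxK)
        have h2 : shear hc i j hij x * x⁻¹ = Pi.mulSingle j (x i) := by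
          funext l
          show shear hc i j hij x l * (x l)⁻¹ = (Pi.mulSingle j (x i) : Fin n → S) l
          rw [shear_apply, Pi.mulSingle_apply]
          by_cases hl : l = j
          · rw [if_pos hl, if_pos hl, hl, hc (x j) (x i), mul_inv_cancel_right]
          · rw [if_neg hl, if_neg hl, mul_inv_cancel]
        rw [← h2]; exact h1
      · push Not at hj
        refine ⟨i, x i, hi, ?_⟩
        have h2 : (Pi.mulSingle i (x i) : Fin n → S) = x := by
          funext l
          rw [← hj l, Pi.mulSingle_apply, if_pos rfl]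
        rw [h2]; exact hxK
    · -- noncommutative: the centre is trivial
      have hcen : Subgroup.center S = ⊥ := by
        rcases (inferInstance : (Subgroup.center S).Normal).eq_bot_or_eq_top with h | h
        · exact h
        · exfalso
          apply hc
          intro a b
          have hb : b ∈ Subgroup.center S := by rw [h]; trivial
          exact (Subgroup.mem_center_iff.mp hb a)
      have hnc : x i ∉ Subgroup.center S := by
        rw [hcen, Subgroup.mem_bot]; exact hi
      rw [Subgroup.mem_center_iff] at hnc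
      push Not at hnc
      obtain ⟨t, ht⟩ := hnc
      refine ⟨i, t * x i * t⁻¹ * (x i)⁻¹, ?_, ?_⟩
      · intro h
        rw [mul_inv_eq_one, mul_inv_eq_iff_eq_mul] at h
        exact ht h
      · have h1 : Pi.mulSingle i t * x * (Pi.mulSingle i t)⁻¹ * x⁻¹ ∈ K :=
          K.mul_mem (hconj _ x hxK) (K.inv_mem hxK)
        have h2 : Pi.mulSingle i t * x * (Pi.mulSingle i t)⁻¹ * x⁻¹ =
            Pi.mulSingle i (t * x i * t⁻¹ * (x i)⁻¹) := by
          funext l
          show (Pi.mulSingle i t : Fin n → S) l * x l * ((Pi.mulSingle i t : Fin n → S) l)⁻¹ *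
              (x l)⁻¹ = (Pi.mulSingle i (t * x i * t⁻¹ * (x i)⁻¹) : Fin n → S) l
          rw [Pi.mulSingle_apply, Pi.mulSingle_apply]
          by_cases hl : l = i
          · rw [if_pos hl, if_pos hl, hl]
          · rw [if_neg hl, if_neg hl, one_mul, inv_one, mul_one, mul_inv_cancel]
        rw [← h2]; exact h1
  obtain ⟨j, s, hs1, hsK⟩ := hA
  -- Claim B: the whole j-th factor lies in K
  have hB : ∀ a : S, Pi.mulSingle j a ∈ K := by
    have hn : (K.comap (MonoidHom.mulSingle (fun _ : Fin n => S) j)).Normal := by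
      refine ⟨fun a ha t => ?_⟩
      rw [Subgroup.mem_comap] at ha ⊢
      rw [map_mul, map_mul, map_inv]
      exact hconj _ _ ha
    rcases hn.eq_bot_or_eq_top with h | h
    · exfalso
      have h3 : s ∈ K.comap (MonoidHom.mulSingle (fun _ : Fin n => S) j) := hsK
      rw [h, Subgroup.mem_bot] at h3
      exact hs1 h3
    · intro a
      have h3 : a ∈ K.comap (MonoidHom.mulSingle (fun _ : Fin n => S) j) := by rw [h]; trivial
      exact h3
  -- Claim C: every factor lies in K
  have hC : ∀ (k : Fin n) (a : S), Pi.mulSingle k a ∈ K := by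
    intro k a
    have h1 := hK (coordSwap j k) _ (hB a)
    have h2 : coordSwap j k (Pi.mulSingle j a) = Pi.mulSingle k a := by
      funext l
      rw [coordSwap_apply, Pi.mulSingle_apply, Pi.mulSingle_apply]
      by_cases hl : l = k
      · rw [if_pos hl, hl, Equiv.swap_apply_right, if_pos rfl]
      · rw [if_neg hl, if_neg]
        intro h
        apply hl
        have h4 := congrArg (Equiv.swap j k) h
        rw [Equiv.swap_apply_self, Equiv.swap_apply_left] at h4
        exact h4
    rw [← h2]; exact h1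
  rw [eq_top_iff]
  intro y _
  exact Subgroup.pi_mem_of_mulSingle_mem y (fun k => hC k (y k))

end Cfsg.Agent.Helper29
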