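import Mathlib
import Cfsg.Agent.Helper14.SylTorusSp

/-!
# Elements of order `m ∣ q ^ l - 1` in `Sp (2 n, q)` for `l ≤ n` (piece P6a of S2469)
-/

set_option autoImplicit false

namespace Cfsg.Agent.Helper29.PSpRS

theorem sp_of_dvd_sub {F : Type*} [Field F] [Fintype F] (n l m : ℕ) (hl : 0 < l) (hln : l ≤ n)
    (hm : m ∣ Fintype.card F ^ l - 1) :
    ∃ x : ↥(Matrix.symplecticGroup (Fin n) F), orderOf x = m := by
  classical
  obtain ⟨p, hp⟩ := CharP.exists F
  haveI := hp
  haveI : Fact p.Prime := ⟨CharP.char_is_prime F p⟩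
  haveI : NeZero l := ⟨hl.ne'⟩
  haveI : Fintype (FiniteField.Extension F p l) := Fintype.ofFinite _
  have hdim : Module.finrank F (FiniteField.Extension F p l) = l :=
    FiniteField.finrank_extension F p l
  have hLcard : Nat.card (FiniteField.Extension F p l)ˣ = Fintype.card F ^ l - 1 := by
    rw [Nat.card_units, Nat.card_eq_fintype_card,
      Module.card_eq_pow_finrank (K := F) (V := FiniteField.Extension F p l), hdim]
  obtain ⟨f, hf⟩ := Cfsg.Agent.Helper14.SylTorus.exists_hom_zmod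
    (C := (FiniteField.Extension F p l)ˣ) m (by rw [hLcard]; exact hm)
  obtain ⟨φ, hφ⟩ := Cfsg.Agent.Helper14.SylTorus.torusGL (F := F)
    (L := FiniteField.Extension F p l) 1 l n hdim (by omega)
  let Ψ : Multiplicative (ZMod m) →* ↥(Matrix.symplecticGroup (Fin n) F) :=
    (Cfsg.Agent.Helper18.leviSp (F := F) (Fin n)).comp
      (φ.comp (MonoidHom.pi fun _ : Fin 1 => f))
  have hΨ : Function.Injective Ψ := by
    intro a b hab
    have h1 := hφ (Cfsg.Agent.Helper18.leviSp_injective (F := F) (Fin n) hab)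
    exact hf (congrFun h1 0)
  refine ⟨Ψ (Multiplicative.ofAdd (1 : ZMod m)), ?_⟩
  rw [orderOf_injective Ψ hΨ, orderOf_ofAdd_eq_addOrderOf, ZMod.addOrderOf_one]

end Cfsg.Agent.Helper29.PSpRS
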