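import Mathlib
import Cfsg.Agent.Helper23.QP5

/-!
# Piece [g] of S4172: a normal `p`-subgroup centralised by `E` is trivial
-/

set_option autoImplicit false

namespace Cfsg.Agent.Helper29.S4172g

open scoped commutatorElement

theorem no_central {G : Type*} [Group G] [Finite G] (p : ℕ) [Fact p.Prime] (P : Sylow p G)
    (hfrat : ((frattini ↥(P : Subgroup G)).map (P : Subgroup G).subtype).normalCore = ⊥)
    (E : Subgroup G)
    (hZ : ∀ (R : Sylow p ↥E) (z : ↥E), z ∈ Subgroup.center ↥E → z ∈ (R : Subgroup ↥E) →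
      z ∈ ⁅(R : Subgroup ↥E), (R : Subgroup ↥E)⁆)
    (N : Subgroup G) (hN : N.Normal) (hNp : IsPGroup p ↥N) (hNE : N ≤ E)
    (hc : ∀ n ∈ N, ∀ e ∈ E, n * e = e * n) : N = ⊥ := by
  classical
  have hPP : ⁅(P : Subgroup G), (P : Subgroup G)⁆ ≤
      (frattini ↥(P : Subgroup G)).map (P : Subgroup G).subtype := by
    rw [Subgroup.commutator_le]
    intro a ha b hb
    have h1 := Cfsg.Agent.Helper23.QP.commutator_mem_frattini (p := p) P.isPGroup'
      (⟨a, ha⟩ : ↥(P : Subgroup G)) ⟨b, hb⟩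
    exact ⟨_, h1, rfl⟩
  -- a Sylow subgroup of `E` containing `N`
  have hNp' : IsPGroup p ↥(N.subgroupOf E) := hNp.comap_subtype
  obtain ⟨R, hR⟩ := hNp'.exists_le_sylow
  -- a Sylow subgroup of `G` containing the image of `R`, and a conjugating element
  obtain ⟨Q, hQ⟩ := (R.isPGroup'.map E.subtype).exists_le_sylow
  obtain ⟨g, hg⟩ := MulAction.exists_smul_eq G P Q
  have hQP : (Q : Subgroup G) = (P : Subgroup G).map (MulAut.conj g).toMonoidHom := by
    rw [← hg, Sylow.coe_subgroup_smul]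
    rfl
  -- every element of `N` is a `g`-conjugate of an element of `Φ`
  have key : ∀ n ∈ N, ∃ φ ∈ (frattini ↥(P : Subgroup G)).map (P : Subgroup G).subtype,
      n = g * φ * g⁻¹ := by
    intro n hn
    have hz1 : (⟨n, hNE hn⟩ : ↥E) ∈ Subgroup.center ↥E := by
      rw [Subgroup.mem_center_iff]
      intro e
      apply Subtype.ext
      exact (hc n hn e.1 e.2).symm
    have hz2 : (⟨n, hNE hn⟩ : ↥E) ∈ (R : Subgroup ↥E) := hR (Subgroup.mem_subgroupOf.mpr hn)
    have hz3 := hZ R ⟨n, hNE hn⟩ hz1 hz2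
    have h4 : n ∈ (⁅(R : Subgroup ↥E), (R : Subgroup ↥E)⁆).map E.subtype := ⟨_, hz3, rfl⟩
    rw [Subgroup.map_commutator] at h4
    have h5 : n ∈ ⁅(Q : Subgroup G), (Q : Subgroup G)⁆ := Subgroup.commutator_mono hQ hQ h4
    rw [hQP, ← Subgroup.map_commutator] at h5
    obtain ⟨c, hc1, hc2⟩ := h5
    refine ⟨c, hPP hc1, ?_⟩
    rw [← hc2]
    simp [MulAut.conj_apply]
  have hle : N ≤ (frattini ↥(P : Subgroup G)).map (P : Subgroup G).subtype := by
    intro n hn
    obtain ⟨φ, hφ, h⟩ := key (g * n * g⁻¹) (hN.conj_mem n hn g)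
    have : n = φ := by
      have h2 := congrArg (fun x => g⁻¹ * x * g) h
      simpa [mul_assoc] using h2
    rw [this]; exact hφ
  have h2 := (Subgroup.normal_le_normalCore (H := (frattini ↥(P : Subgroup G)).map
    (P : Subgroup G).subtype) (N := N)).mpr hle
  rw [hfrat] at h2
  exact eq_bot_iff.mpr h2

end Cfsg.Agent.Helper29.S4172g
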